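import Groth.Agent.S2116
import Groth.Prelude
import Mathlib.AlgebraicGeometry.Morphisms.Smooth
import Mathlib.RingTheory.DedekindDomain.PID

/-!
Smoothness over an algebraically closed field from regularity, and regularity of normal curves.
-/

set_option autoImplicit false
set_option backward.isDefEq.respectTransparency false
set_option linter.style.haveILetI false
universe u
open CategoryTheory CategoryTheory.Limits AlgebraicGeometry TopologicalSpace

noncomputable section

namespace Groth.Agent.FinBirLib

/-- A noetherian normal local domain of dimension at most one is regular. -/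
theorem isRegularLocalRing_of_normal_dimLE_one (R : Type u) [CommRing R] [IsNoetherianRing R] [IsLocalRing R]
    [IsDomain R] [IsIntegrallyClosed R] [Ring.KrullDimLE 1 R] : IsRegularLocalRing R := by
  haveI : Ring.DimensionLEOne R := ⟨fun h hP => Ring.krullDimLE_one_iff_of_noZeroDivisors.1 inferInstance _ h hP⟩
  haveI : IsDedekindDomain R := { }
  haveI : IsPrincipalIdealRing R := by
    refine IsPrincipalIdealRing.of_finite_maximals ?_
    exact (Set.finite_singleton (IsLocalRing.maximalIdeal R)).subset fun I hI => IsLocalRing.eq_maximalIdeal hI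
  infer_instance

/-- Over an algebraically closed field, regular closed points lie in the smooth locus. -/
theorem mem_smoothLocus_of_regular_algClosed {k : Type u} [Field k] [IsAlgClosed k] {X : Scheme.{u}}
    (f : X ⟶ Spec (CommRingCat.of k)) [LocallyOfFinitePresentation f] (x : X) (hxc : IsClosed ({x} : Set X))
    [IsRegularLocalRing (X.presheaf.stalk x)] : x ∈ f.smoothLocus := by
  obtain ⟨V, hV, hxV, -⟩ := exists_isAffineOpen_mem_and_subset (X := X) (x := x) (U := ⊤) trivial
  have hft := f.finiteType_appLE (isAffineOpen_top _) hV le_top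
  let ψ : k →+* Γ(Spec (CommRingCat.of k), ⊤) := (Scheme.ΓSpecIso (CommRingCat.of k)).inv.hom
  have hψ : Function.Bijective ψ := (Scheme.ΓSpecIso (CommRingCat.of k)).symm.commRingCatIsoToRingEquiv.bijective
  rw [Scheme.Hom.mem_smoothLocus, formallySmooth_stalkMap_iff ⊤ (isAffineOpen_top _) V hV le_top hxV]
  letI := (f.appLE ⊤ V le_top).hom.toAlgebra
  letI := ψ.toAlgebra
  letI : Algebra k Γ(X, V) := ((f.appLE ⊤ V le_top).hom.comp ψ).toAlgebra
  haveI : IsScalarTower k Γ(Spec (CommRingCat.of k), ⊤) Γ(X, V) := IsScalarTower.of_algebraMap_eq fun _ => rfl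
  haveI : Algebra.FiniteType k Γ(X, V) :=
    RingHom.FiniteType.comp hft (RingHom.FiniteType.of_surjective ψ hψ.2)
  let q := (hV.primeIdealOf ⟨x, hxV⟩).asIdeal
  haveI : q.IsMaximal := hV.primeIdealOf_isMaximal_of_isClosed _ hxc
  letI : Algebra Γ(X, V) (X.presheaf.stalk x) := TopCat.Presheaf.algebra_section_stalk X.presheaf ⟨x, hxV⟩
  haveI : IsLocalization.AtPrime (X.presheaf.stalk x) q := hV.isLocalization_stalk ⟨x, hxV⟩
  haveI : IsRegularLocalRing (Localization.AtPrime q) := IsRegularLocalRing.of_ringEquiv
    (IsLocalization.algEquiv q.primeCompl (X.presheaf.stalk x) (Localization.AtPrime q)).toRingEquiv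
  haveI : Algebra.FormallySmooth k (Localization.AtPrime q) := (S2116.result (k := k) q).1 inferInstance
  haveI : Algebra.FormallyUnramified k Γ(Spec (CommRingCat.of k), ⊤) :=
    Algebra.FormallyUnramified.of_surjective (Algebra.ofId _ _) hψ.2
  haveI : IsScalarTower k Γ(Spec (CommRingCat.of k), ⊤) (Localization.AtPrime q) :=
    IsScalarTower.of_algebraMap_eq fun c => by
      rw [IsScalarTower.algebraMap_apply k Γ(X, V) (Localization.AtPrime q),
        IsScalarTower.algebraMap_apply k Γ(Spec (CommRingCat.of k), ⊤) Γ(X, V),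
        ← IsScalarTower.algebraMap_apply Γ(Spec (CommRingCat.of k), ⊤) Γ(X, V) (Localization.AtPrime q)]
  exact Algebra.FormallySmooth.of_restrictScalars k Γ(Spec (CommRingCat.of k), ⊤) (Localization.AtPrime q)

/-- Regular at closed points implies smooth over an algebraically closed field. -/
theorem smooth_of_regular_algClosed {k : Type u} [Field k] [IsAlgClosed k] {X : Scheme.{u}}
    (f : X ⟶ Spec (CommRingCat.of k)) [LocallyOfFiniteType f]
    (h : ∀ x : X, IsClosed ({x} : Set X) → IsRegularLocalRing (X.presheaf.stalk x)) : Smooth f := by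
  haveI : LocallyOfFinitePresentation f := inferInstance
  haveI : JacobsonSpace X := LocallyOfFiniteType.jacobsonSpace f
  refine Scheme.Hom.smoothLocus_eq_top_iff.1 (top_le_iff.1 fun x _ => ?_)
  by_contra hx
  obtain ⟨y, hy, hyc⟩ := nonempty_inter_closedPoints (Z := ((f.smoothLocus : Set X))ᶜ) ⟨x, hx⟩
    f.smoothLocus.2.isClosed_compl.isLocallyClosed
  haveI := h y hyc
  exact hy (mem_smoothLocus_of_regular_algClosed f y hyc)

end Groth.Agent.FinBirLib
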