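import Groth.Agent.FinBirLib.Genus
import Groth.Agent.BirQFLib.Basic
import Groth.Agent.DimFormulaLib.General
import Groth.Agent.ModPairLib.FiniteExt
import Groth.Agent.CurveLib.Finite

/-!
Proper birational morphisms of curves.
-/

set_option autoImplicit false
set_option backward.isDefEq.respectTransparency false
set_option linter.style.haveILetI false
universe u
open CategoryTheory CategoryTheory.Limits AlgebraicGeometry TopologicalSpace
open Groth.Agent.CurveLib Groth.Agent.PullbackMod

noncomputable section

namespace Groth.Agent.FinBirLib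

variable {X X' : Scheme.{u}}

theorem isIso_stalkMap_of_restrict (f : X' ⟶ X) (U : X.Opens) (h : IsIso (f ∣_ U)) (x : X') (hx : f x ∈ U) :
    IsIso (f.stalkMap x) :=
  ((MorphismProperty.isomorphisms CommRingCat).arrow_mk_iso_iff
    (morphismRestrictStalkMap f U ⟨x, hx⟩)).1 (inferInstanceAs (IsIso _))

/-- A proper morphism to a curve, an isomorphism over a dense open with dense preimage, is finite. -/
theorem isFinite_of_iso_dense [IsNoetherian X] (hdim : topologicalKrullDim X ≤ 1) (f : X' ⟶ X) [IsProper f]
    (U : X.Opens) (hU' : Dense ((f ⁻¹ᵁ U : X'.Opens) : Set X')) (hfU : IsIso (f ∣_ U)) : IsFinite f := by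
  haveI : IsLocallyNoetherian X' := LocallyOfFiniteType.isLocallyNoetherian f
  haveI : CompactSpace X' := QuasiCompact.compactSpace_of_compactSpace f
  haveI : IsNoetherian X' := {}
  have hfin : ∀ y : X, (f ⁻¹' {y}).Finite := by
    intro y
    by_cases hy : y ∈ U
    · refine Set.Subsingleton.finite fun a ha b hb => ?_
      have haU : f a ∈ U := by rw [show f a = y from ha]; exact hy
      have hbU : f b ∈ U := by rw [show f b = y from hb]; exact hy
      have h : (f ∣_ U) ⟨a, haU⟩ = (f ∣_ U) ⟨b, hbU⟩ := by
        apply Subtype.ext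
        rw [morphismRestrict_base]
        exact (show f a = y from ha).trans (show f b = y from hb).symm
      exact congrArg Subtype.val ((f ∣_ U).homeomorph.injective h)
    haveI : CompactSpace ↥(f.fiber y) := by
      haveI : QuasiCompact (f.fiberToSpecResidueField y) :=
        MorphismProperty.pullback_snd f (X.fromSpecResidueField y) inferInstance
      exact QuasiCompact.compactSpace_of_compactSpace (f.fiberToSpecResidueField y)
    haveI : IsLocallyNoetherian (f.fiber y) := by
      haveI : LocallyOfFiniteType (f.fiberToSpecResidueField y) :=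
        MorphismProperty.pullback_snd f (X.fromSpecResidueField y) inferInstance
      exact LocallyOfFiniteType.isLocallyNoetherian (f.fiberToSpecResidueField y)
    haveI : IsNoetherian (f.fiber y) := {}
    have hfib : ∀ w, f (f.fiberι y w) = y := fun w => by
      have : f.fiberι y w ∈ f ⁻¹' {y} := (f.range_fiberι y).le ⟨w, rfl⟩
      exact this
    haveI : T1Space ↥(f.fiber y) := by
      refine ⟨fun p => ?_⟩
      rw [← closure_eq_iff_isClosed]
      refine Set.Subset.antisymm (fun q hq => ?_) subset_closure
      have h1 := (specializes_iff_mem_closure.2 hq).map (f.fiberι y).continuous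
      have : f.fiberι y p = f.fiberι y q := by
        by_contra hne
        let a := f.fiberι y p
        let b := f.fiberι y q
        have haU : a ∉ f ⁻¹ᵁ U := fun h => hy (hfib p ▸ h)
        obtain ⟨η, hη⟩ := QuasiSober.sober (isIrreducible_irreducibleComponent (x := a)) isClosed_irreducibleComponent
        have hgenU : ∀ ξ : X', closure {ξ} ∈ irreducibleComponents ↥X' → f ξ ∈ U := by
          intro ξ hξ
          by_contra hξU
          obtain ⟨O, hO, hne', hsub⟩ : ∃ O : Set X', IsOpen O ∧ O.Nonempty ∧ O ⊆ closure {ξ} := by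
            have hfin := TopologicalSpace.NoetherianSpace.finite_irreducibleComponents (α := ↥X')
            refine ⟨(⋃₀ (irreducibleComponents ↥X' \ {closure {ξ}}))ᶜ, ?_, ⟨ξ, ?_⟩, fun w hw => ?_⟩
            · rw [isOpen_compl_iff, Set.sUnion_eq_biUnion]
              exact (hfin.subset Set.sdiff_subset).isClosed_biUnion fun t ht =>
                isClosed_of_mem_irreducibleComponents t ht.1
            · rintro ⟨t, ⟨ht, htC⟩, hξt⟩
              have h2 : closure {ξ} ⊆ t :=
                (isClosed_of_mem_irreducibleComponents t ht).closure_subset_iff.2 (by simpa using hξt)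
              exact htC (Set.Subset.antisymm (hξ.2 ht.1 h2) h2)
            · by_contra h
              exact hw ⟨irreducibleComponent w, ⟨irreducibleComponent_mem_irreducibleComponents w,
                fun e => h (e ▸ mem_irreducibleComponent)⟩, mem_irreducibleComponent⟩
          obtain ⟨w, hwO, hwU⟩ := hU'.inter_open_nonempty O hO hne'
          exact hξU ((specializes_iff_mem_closure.2 (hsub hwO)).mem_open (f ⁻¹ᵁ U).2 hwU)
        have hηU : η ∈ f ⁻¹ᵁ U := hgenU η (by rw [hη.def]; exact irreducibleComponent_mem_irreducibleComponents a)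
        have hlt : a < η := lt_of_le_not_ge (hη.specializes mem_irreducibleComponent) fun h =>
          haU ((Specializes.antisymm (hη.specializes mem_irreducibleComponent) h).eq ▸ hηU)
        have hlt2 : b < a := lt_of_le_not_ge h1 fun h => hne (Specializes.antisymm h1 h).eq
        have h2 : (2 : WithBot ℕ∞) ≤ ringKrullDim (X'.presheaf.stalk b) := by
          rw [ringKrullDim_stalk_eq_coheight]
          have h := le_trans (add_le_add_left (le_trans (le_add_left le_rfl) (Order.coheight_add_one_le hlt)) 1)
            (Order.coheight_add_one_le hlt2)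
          rw [one_add_one_eq_two] at h
          exact WithBot.coe_le_coe.2 h
        obtain ⟨c⟩ := DimFormulaLib.exists_chart f b
        obtain ⟨t, ht⟩ := DimFormulaLib.exists_nat_trdeg_quotient_pair (A := c.A) c.q
        have h := DimFormulaLib.stalk_dim_add_trdeg_le f b t 0 (c.resTrdegAt_self.trans ht) fun ξ hξ _ => by
          rw [BirQFLib.resTrdegAt_eq_zero f ξ (isIso_stalkMap_of_restrict f U hfU ξ (hgenU ξ hξ))]
          simp
        rw [Nat.cast_zero, add_zero] at h
        have h3 : ringKrullDim (X'.presheaf.stalk b) ≤ ringKrullDim (X'.presheaf.stalk b) + (t : WithBot ℕ∞) :=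
          le_add_of_nonneg_right (WithBot.coe_le_coe.2 zero_le)
        have h4 : ringKrullDim (X.presheaf.stalk (f b)) ≤ 1 := by
          rw [ringKrullDim_stalk_eq_coheight]
          refine le_trans (Order.coheight_le_krullDim _) ?_
          rw [← DimLiftLib.topologicalKrullDim_eq]
          exact hdim
        exact absurd ((h2.trans h3).trans (h.trans h4)) (by decide)
      exact ((f.fiberι y).isEmbedding.injective this).symm
    haveI : Finite ↥(f.fiber y) := by
      haveI := (TopologicalSpace.NoetherianSpace.finite_irreducibleComponents (α := ↥(f.fiber y))).to_subtype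
      refine Finite.of_surjective (α := irreducibleComponents ↥(f.fiber y)) (fun Z => (Z.2.1.1.some)) fun p => ?_
      refine ⟨⟨_, irreducibleComponent_mem_irreducibleComponents p⟩, ?_⟩
      have hsub : (irreducibleComponent p).Subsingleton := by
        obtain ⟨η, hη⟩ := QuasiSober.sober (isIrreducible_irreducibleComponent (x := p)) isClosed_irreducibleComponent
        rw [← hη.def, closure_singleton]
        exact Set.subsingleton_singleton
      exact hsub (Set.Nonempty.some_mem _) mem_irreducibleComponent
    rw [← f.range_fiberι y]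
    exact Set.finite_range _
  haveI : LocallyQuasiFinite f := LocallyQuasiFinite.of_finite_preimage_singleton f hfin
  exact IsFinite.of_isProper_of_locallyQuasiFinite f

/-- The structure map is a monomorphism on a reduced scheme if it is an isomorphism over a dense open. -/
theorem app_injective [IsReduced X] (f : X' ⟶ X) (U : X.Opens) (hU : Dense (U : Set X)) (hfU : IsIso (f ∣_ U))
    (V : X.Opens) : Function.Injective (f.app V) := by
  refine (injective_iff_map_eq_zero _).2 fun a ha => ?_
  have hb : X.basicOpen a = ⊥ := by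
    rw [eq_bot_iff]
    intro v hv
    exfalso
    obtain ⟨w, hwa, hwU⟩ := hU.inter_open_nonempty _ (X.basicOpen a).2 ⟨v, hv⟩
    obtain ⟨⟨z, hz⟩, hzw⟩ := (f ∣_ U).homeomorph.surjective ⟨w, hwU⟩
    have hfz : f z = w := by
      have := congrArg Subtype.val hzw
      rwa [Scheme.Hom.homeomorph_apply, morphismRestrict_base] at this
    have h1 : z ∈ f ⁻¹ᵁ X.basicOpen a := show f z ∈ X.basicOpen a from hfz.symm ▸ hwa
    rw [Scheme.preimage_basicOpen, ha, Scheme.basicOpen_zero] at h1
    exact h1
  exact (basicOpen_eq_bot_iff a).1 hb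

variable (k : Type u) [Field k] [X.Over (Spec (CommRingCat.of k))] [X'.Over (Spec (CommRingCat.of k))]
  [IsProper (X ↘ Spec (CommRingCat.of k))]

/-- Equality of `h⁰` and `h¹` forces an isomorphism. -/
theorem isIso_of_genus_eq [IsReduced X] (hdim : topologicalKrullDim X ≤ 1) (f : X' ⟶ X) [IsProper f]
    (hf : f ≫ (X ↘ Spec (CommRingCat.of k)) = X' ↘ Spec (CommRingCat.of k))
    (U : X.Opens) (hU : Dense (U : Set X)) (hU' : Dense ((f ⁻¹ᵁ U : X'.Opens) : Set X')) (hfU : IsIso (f ∣_ U))
    (h0 : Function.Surjective (f.app ⊤)) (h1 : Curv2.genus k X' = Curv2.genus k X) : IsIso f := by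
  haveI := EulerIneqLib.isNoetherian_proper (X := X) k
  haveI : IsFinite f := isFinite_of_iso_dense hdim f U hU' hfU
  haveI : IsClosedImmersion (f ∣_ U) := inferInstance
  let O := Coh.structureModule X
  let P := (Scheme.Modules.pushforward f).obj (Coh.structureModule X')
  let s : O ⟶ P := FibreVanishQC.structMap f
  haveI : Mono s := (mono_iff_stalk s).2 fun x => by
    refine (injective_iff_map_eq_zero _).2 fun z hz => ?_
    obtain ⟨V, hxV, a, rfl⟩ := TopCat.Presheaf.exists_germ_eq _ z
    rw [stalkLin_germ] at hz
    obtain ⟨W, hxW, i, i', he⟩ := TopCat.Presheaf.germ_eq P.presheaf x hxV hxV (s.app V a) 0 (by rw [hz, map_zero])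
    rw [map_zero] at he
    rw [← TopCat.Presheaf.germ_res_apply O.presheaf i x hxW a]
    have h2 : O.presheaf.map i.op a = 0 := by
      refine app_injective f U hU hfU W ?_
      rw [map_zero]
      exact ((ConcreteCategory.congr_hom (s.mapPresheaf.naturality i.op) a)).trans he
    rw [h2, map_zero]
  let S : ShortComplex X.Modules := DevLib.cokerSeq s
  have hS : S.ShortExact := DevLib.cokerSeq_shortExact _
  have hC : CohB1.support S.X₃ ⊆ (U : Set X)ᶜ := fun x hx hxU =>
    hx (DevLib.subsingleton_coker s (surjective_stalk_structMap f U inferInstance x hxU))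
  haveI : Module.Finite k (Coh.HH X O 1) := EulerIneqLib.finite_HH (DevLib.isCoh_structureModule X) 1
  have hsur1 : Function.Surjective (hMap (k := k) s 1) :=
    hMap_one_surjective hdim s U.2.isClosed_compl (dim_compl hdim U hU) fun x hx =>
      surjective_stalk_structMap f U inferInstance x (not_not.1 hx)
  have hrk : Module.finrank k (Coh.HH X O 1) = Module.finrank k (Coh.HH X P 1) :=
    h1.symm.trans (IntLib.finrank_push k f hf _ 1).symm
  haveI : Module.Finite k (Coh.HH X P 1) := Module.Finite.of_surjective _ hsur1
  have hinj1 : Function.Injective (hMap (k := k) s 1) :=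
    (LinearMap.injective_iff_surjective_of_finrank_eq_finrank hrk).2 hsur1
  have hsur0 : Function.Surjective (hMap (k := k) s 0) := fun y => by
    let eO : Coh.HH X O 0 ≃+ Γ(O, ⊤) := (CohBase.HHEquiv O 0).trans (CohBase.H0Equiv (⊤ : X.Opens) (Coh.toAb O))
    let eP : Coh.HH X P 0 ≃+ Γ(P, ⊤) := (CohBase.HHEquiv P 0).trans (CohBase.H0Equiv (⊤ : X.Opens) (Coh.toAb P))
    obtain ⟨a, ha⟩ := h0 (eP y)
    refine ⟨eO.symm a, eP.injective ?_⟩
    show CohBase.H0Equiv _ _ (CohBase.HEquiv _ 0 (Sheaf.H.map ((QCohLib.toAbF X).map s) 0 (eO.symm a))) = eP y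
    refine (congrArg (CohBase.H0Equiv _ _) (CohBase.HEquiv_map ((QCohLib.toAbF X).map s) 0 (eO.symm a))).trans ?_
    refine (CohBase.H0Equiv_hmap _ _ _).trans ?_
    show s.app ⊤ (eO (eO.symm a)) = eP y
    rw [AddEquiv.apply_symm_apply]
    exact ha
  haveI : Subsingleton (Coh.HH X S.X₃ 0) := by
    refine subsingleton_of_forall_eq 0 fun x => ?_
    have h2 : hδ (k := k) hS 0 x = 0 := hinj1 (by
      have : hδ (k := k) hS 0 x ∈ LinearMap.ker (hMap (k := k) S.f 1) := by
        rw [← range_hδ hS 0]; exact ⟨x, rfl⟩
      rw [LinearMap.mem_ker] at this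
      rw [map_zero]
      exact this)
    have h3 : x ∈ LinearMap.range (hMap (k := k) S.g 0) := by
      rw [range_hMap_g hS 0]; exact h2
    obtain ⟨w, rfl⟩ := h3
    obtain ⟨v, rfl⟩ := hsur0 w
    exact LinearMap.mem_ker.1 ((range_hMap_f hS 0).le ⟨v, rfl⟩)
  have hepi : Epi s := (epi_iff_stalk s).2 fun x => by
    haveI : Subsingleton ((cokernel s).presheaf.stalk x) :=
      subsingleton_stalk_of_H0 U.2.isClosed_compl (dim_compl hdim U hU) S.X₃ hC x
    exact fun z => (DevLib.coker_exact s x z).1 (Subsingleton.elim _ _)
  haveI : IsIso s := isIso_of_mono_of_epi s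
  refine (IsZariskiLocalAtTarget.iff_of_iSup_eq_top (P := MorphismProperty.isomorphisms Scheme)
    (fun V : X.affineOpens => V.1) (iSup_affineOpens_eq_top X)).2 fun V => ?_
  exact ModPairLib.isIso_restrict_of_app_bijective f V.2
    (ConcreteCategory.bijective_of_isIso (s.app V.1))

end Groth.Agent.FinBirLib
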