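import Groth.Agent.IntLib.Push
import Groth.Agent.CurveLib.CurveVanish
import Groth.Agent.FibreVanishQC.BaseChange
import Groth.Agent.DimLiftLib.Basic

/-!
Finite birational morphisms of curves and the genus.
-/

set_option autoImplicit false
set_option backward.isDefEq.respectTransparency false
set_option linter.style.haveILetI false
universe u
open CategoryTheory CategoryTheory.Limits AlgebraicGeometry TopologicalSpace
open Groth.Agent.CurveLib Groth.Agent.PullbackMod

noncomputable section

namespace Groth.Agent.FinBirLib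

variable {X Y : Scheme.{u}}

/-- A dense open of a Noetherian scheme of dimension at most one misses only closed points. -/
theorem eq_of_specializes_compl [IsNoetherian X] (hdim : topologicalKrullDim X ≤ 1) (U : X.Opens)
    (hU : Dense (U : Set X)) {a b : X} (ha : a ∉ U) (hab : a ⤳ b) : a = b := by
  by_contra hne
  obtain ⟨η, hη⟩ := QuasiSober.sober (isIrreducible_irreducibleComponent (x := a)) isClosed_irreducibleComponent
  have hfin := TopologicalSpace.NoetherianSpace.finite_irreducibleComponents (α := ↥X)
  have hηU : η ∈ U := by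
    by_contra hηU
    let C := irreducibleComponent a
    let O : Set X := (⋃₀ (irreducibleComponents ↥X \ {C}))ᶜ
    have hO : IsOpen O := (by rw [Set.sUnion_eq_biUnion]; exact (hfin.subset Set.sdiff_subset).isClosed_biUnion fun t ht =>
      isClosed_of_mem_irreducibleComponents t ht.1 : IsClosed (⋃₀ (irreducibleComponents ↥X \ {C}))).isOpen_compl
    have hηO : η ∈ O := by
      rintro ⟨t, ⟨ht, htC⟩, hηt⟩
      refine htC (Set.Subset.antisymm ?_ ?_)
      · exact (irreducibleComponent_mem_irreducibleComponents a).2 ht.1 (by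
          rw [← hη.def]; exact (isClosed_of_mem_irreducibleComponents t ht).closure_subset_iff.2 (by simpa using hηt))
      · show irreducibleComponent a ⊆ t
        rw [← hη.def]; exact (isClosed_of_mem_irreducibleComponents t ht).closure_subset_iff.2 (by simpa using hηt)
    obtain ⟨w, hwO, hwU⟩ := hU.inter_open_nonempty O hO ⟨η, hηO⟩
    have hwC : w ∈ C := by
      by_contra h
      refine hwO ⟨irreducibleComponent w, ⟨irreducibleComponent_mem_irreducibleComponents w, fun e => h ?_⟩,
        mem_irreducibleComponent⟩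
      rw [← show irreducibleComponent w = C from e]
      exact mem_irreducibleComponent
    exact hηU ((hη.specializes hwC).mem_open U.2 hwU)
  have hne' : η ≠ a := fun h => ha (h ▸ hηU)
  have hlt : a < η := lt_of_le_not_ge (hη.specializes mem_irreducibleComponent) fun h =>
    hne' (Specializes.antisymm (hη.specializes mem_irreducibleComponent) h).eq
  have hlt2 : b < a := lt_of_le_not_ge hab fun h => hne (Specializes.antisymm hab h).eq
  have h := le_trans (add_le_add_left (le_trans (le_add_left le_rfl) (Order.coheight_add_one_le hlt)) 1)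
    (Order.coheight_add_one_le hlt2)
  rw [one_add_one_eq_two] at h
  have h2 : ((2 : ℕ∞) : WithBot ℕ∞) ≤ topologicalKrullDim X := by
    rw [DimLiftLib.topologicalKrullDim_eq]
    exact (WithBot.coe_le_coe.2 h).trans (Order.coheight_le_krullDim b)
  exact absurd (WithBot.coe_le_coe.1 (h2.trans hdim)) (by decide)

theorem dim_compl [IsNoetherian X] (hdim : topologicalKrullDim X ≤ 1) (U : X.Opens) (hU : Dense (U : Set X)) :
    topologicalKrullDim ↥((U : Set X)ᶜ) ≤ 0 := by
  haveI : QuasiSober ↥((U : Set X)ᶜ) := (Topology.IsClosedEmbedding.subtypeVal U.2.isClosed_compl).quasiSober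
  refine Order.krullDim_nonpos_iff_forall_isMax.2 fun Z Z' hZ => ?_
  obtain ⟨a, ha⟩ := QuasiSober.sober Z'.isIrreducible' Z'.isClosed'
  obtain ⟨b, hb⟩ := Z.isIrreducible'.1
  have h1 : a ⤳ b := ha.specializes (hZ hb)
  have hab : a = b := Subtype.ext (eq_of_specializes_compl hdim U hU a.2 ((subtype_specializes_iff _ _).1 h1))
  intro z hz
  have : z ∈ closure ({a} : Set _) := ha.def.symm ▸ hz
  rw [hab] at this
  exact Z.isClosed'.closure_subset_iff.2 (Set.singleton_subset_iff.2 hb) this

theorem structMap_app (f : Y ⟶ X) (V : X.Opens) (a : Γ(X, V)) :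
    (FibreVanishQC.structMap f).app V a = f.app V a := rfl

/-- The structure map is surjective on stalks where the morphism is a closed immersion. -/
theorem surjective_stalk_structMap (f : Y ⟶ X) (U : X.Opens) (hfU : IsClosedImmersion (f ∣_ U)) (x : X) (hx : x ∈ U) :
    Function.Surjective (stalkLin (FibreVanishQC.structMap f) x) := by
  intro z
  obtain ⟨O, hxO, t, rfl⟩ := TopCat.Presheaf.exists_germ_eq _ z
  obtain ⟨_, ⟨V, hV, rfl⟩, hxV, hVO⟩ := X.isBasis_affineOpens.exists_subset_of_mem_open
    (show x ∈ O ⊓ U from ⟨hxO, hx⟩) (O ⊓ U).2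
  have hVU : V ≤ U := fun v hv => (hVO hv).2
  have hVO' : V ≤ O := fun v hv => (hVO hv).1
  have hsurj : Function.Surjective (f.app V) := by
    have hV' : IsAffineOpen (U.ι ⁻¹ᵁ V) :=
      hV.preimage_of_isOpenImmersion U.ι (by rw [Scheme.Opens.opensRange_ι]; exact hVU)
    have h1 := Scheme.Hom.app_surjective (f ∣_ U) _ hV'
    rw [morphismRestrict_app] at h1
    have key : ∀ W : X.Opens, W = V → Function.Surjective (f.app W) → Function.Surjective (f.app V) :=
      fun W hW h => hW ▸ h
    refine key (U.ι ''ᵁ (U.ι ⁻¹ᵁ V)) (by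
      rw [Scheme.Hom.image_preimage_eq_opensRange_inf, Scheme.Opens.opensRange_ι, inf_eq_right.mpr hVU]) ?_
    intro w
    have hbij := ConcreteCategory.bijective_of_isIso (Y.presheaf.map (eqToHom (image_morphismRestrict_preimage f U (U.ι ⁻¹ᵁ V))).op)
    obtain ⟨a, ha⟩ := h1 (Y.presheaf.map (eqToHom (image_morphismRestrict_preimage f U (U.ι ⁻¹ᵁ V))).op w)
    exact ⟨a, hbij.1 ha⟩
  let P := (Scheme.Modules.pushforward f).obj (Coh.structureModule Y)
  obtain ⟨a, ha⟩ := hsurj (P.presheaf.map (homOfLE hVO').op t)
  refine ⟨(Coh.structureModule X).presheaf.germ V x hxV a, ?_⟩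
  refine (stalkLin_germ (FibreVanishQC.structMap f) x hxV a).trans ?_
  rw [← TopCat.Presheaf.germ_res_apply P.presheaf (homOfLE hVO') x hxV t]
  exact congrArg _ ha

variable (k : Type u) [Field k] [X.Over (Spec (CommRingCat.of k))] [Y.Over (Spec (CommRingCat.of k))]
  [IsProper (X ↘ Spec (CommRingCat.of k))]

/-- A finite morphism which is a closed immersion over a dense open does not increase `h¹`. -/
theorem genus_le (hdim : topologicalKrullDim X ≤ 1) (f : Y ⟶ X) [IsFinite f]
    (hf : f ≫ (X ↘ Spec (CommRingCat.of k)) = Y ↘ Spec (CommRingCat.of k))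
    (U : X.Opens) (hU : Dense (U : Set X)) (hfU : IsClosedImmersion (f ∣_ U)) :
    Curv2.genus k Y ≤ Curv2.genus k X := by
  haveI := EulerIneqLib.isNoetherian_proper (X := X) k
  haveI : Module.Finite k (Coh.HH X (Coh.structureModule X) 1) :=
    EulerIneqLib.finite_HH (DevLib.isCoh_structureModule X) 1
  have hs := hMap_one_surjective (k := k) hdim (FibreVanishQC.structMap f) U.2.isClosed_compl (dim_compl hdim U hU)
    fun x hx => surjective_stalk_structMap f U hfU x (not_not.1 hx)
  unfold Curv2.genus
  rw [← IntLib.finrank_push k f hf]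
  exact LinearMap.finrank_le_finrank_of_surjective hs

end Groth.Agent.FinBirLib
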